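import Cfsg.Agent.Lib.J1.Check

/-! The element orders of `J1`. -/

set_option autoImplicit false

namespace CfsgLib.J1

open Cfsg.Spor

local notation "G7" => GL (Fin 7) (ZMod 11)

/-- The packed matrix of an element of `GL₇(11)`. -/
def eN (g : G7) : ℕ := encM (g : Matrix (Fin 7) (Fin 7) (ZMod 11))

theorem eN_injective : Function.Injective eN := fun _ _ h => Units.ext (encM_injective h)

theorem eN_mul (g g' : G7) : eN (g * g') = mulN (eN g) (eN g') := by
  rw [eN, eN, eN, mulN_encM]; rfl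

theorem eN_one : eN 1 = oneN := gens_eq.1

theorem eN_pow (g : G7) : ∀ n : ℕ, eN (g ^ n) = powN (eN g) n
  | 0 => by rw [pow_zero]; exact eN_one
  | n + 1 => by rw [pow_succ, eN_mul, eN_pow g n, powN]

theorem exists_of_pow {M : Matrix (Fin 7) (Fin 7) (ZMod 11)} {n : ℕ}
    (h : powN (encM M) (n + 1) = oneN) : ∃ g : G7, eN g = encM M := by
  have hp : ∀ m, powN (encM M) m = encM (M ^ m) := by
    intro m
    induction m with
    | zero => rw [pow_zero]; exact gens_eq.1.symm
    | succ m ih => rw [powN, ih, mulN_encM, pow_succ]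
  have h1 : M ^ (n + 1) = 1 := encM_injective (by rw [← hp, h, gens_eq.1])
  obtain ⟨u, rfl⟩ := IsUnit.of_pow_eq_one h1 n.succ_ne_zero
  exact ⟨u, rfl⟩

theorem exists_gA : ∃ g : G7, eN g = aN := by
  obtain ⟨-, ha, -⟩ := gens_eq
  obtain ⟨g, hg⟩ := exists_of_pow (M := aM) (n := 10) (by rw [ha]; exact gens_order.1)
  exact ⟨g, hg.trans ha⟩

theorem exists_gB : ∃ g : G7, eN g = bN := by
  obtain ⟨-, -, hb, -⟩ := gens_eq
  obtain ⟨g, hg⟩ := exists_of_pow (M := bM) (n := 1) (by rw [hb]; exact gens_order.2)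
  exact ⟨g, hg.trans hb⟩

theorem eN_jankoX : eN jankoX = xN := gens_eq.2.2.2.1

theorem eN_jankoY : eN jankoY = yN := gens_eq.2.2.2.2

noncomputable def gA : G7 := exists_gA.choose

noncomputable def gB : G7 := exists_gB.choose

/-- The point stabiliser. -/
noncomputable def Hsub : Subgroup G7 := Subgroup.closure {gA, gB}

theorem hh_mem : ∀ k : ℕ, ∃ g ∈ Hsub, eN g = hh k := by
  suffices h : ∀ k < 660, ∃ g ∈ Hsub, eN g = hh k by
    intro k
    have e : hh k = hh (k % 660) := by simp [hh]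
    exact e ▸ h _ (Nat.mod_lt _ (by norm_num))
  intro k hk
  induction k using Nat.strong_induction_on with
  | _ k ih =>
  have hp := List.all_eq_true.mp hh_parent k (List.mem_range.mpr hk)
  simp only [Bool.or_eq_true, beq_iff_eq, Bool.and_eq_true, Nat.blt_eq] at hp
  rcases hp with h0 | ⟨hlt, he⟩
  · exact ⟨1, one_mem _, by rw [h0, eN_one, hh_zero]⟩
  · obtain ⟨g, hg, hge⟩ := ih _ hlt (hlt.trans hk)
    refine ⟨(if tget hParGen k == 0 then gA else gB) * g, mul_mem ?_ hg, ?_⟩
    · split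
      · exact Subgroup.subset_closure (Or.inl rfl)
      · exact Subgroup.subset_closure (Or.inr rfl)
    · have hgen : eN (if tget hParGen k == 0 then gA else gB) = hGen k := by
        rw [hGen]
        cases tget hParGen k == 0
        · exact exists_gB.choose_spec
        · exact exists_gA.choose_spec
      rw [eN_mul, hgen, hge, he]

theorem exists_hh {g : G7} (hg : g ∈ Hsub) : ∃ k, eN g = hh k := by
  let M : Submonoid G7 :=
    { carrier := {x | ∀ k, ∃ l, mulN (eN x) (hh k) = hh l}
      one_mem' := fun k => by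
        obtain ⟨y, -, hy⟩ := hh_mem k
        exact ⟨k, by rw [← hy, ← eN_mul, one_mul]⟩
      mul_mem' := fun {x y} hx hy k => by
        obtain ⟨l, hl⟩ := hy k
        obtain ⟨m, hm⟩ := hx l
        obtain ⟨u, -, hu⟩ := hh_mem k
        refine ⟨m, ?_⟩
        rw [← hu] at hl ⊢
        rw [← eN_mul] at hl ⊢
        rw [mul_assoc, eN_mul, hl, hm] }
  have hle : Subgroup.closure {gA, gB} ≤ ⟨M, fun {x} hx => by
      have h : x⁻¹ = x ^ (orderOf x - 1) := by
        rw [inv_eq_iff_mul_eq_one, ← pow_succ', Nat.sub_add_cancel (orderOf_pos x), pow_orderOf_eq_one]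
      rw [h]; exact M.pow_mem hx _⟩ := by
    rw [Subgroup.closure_le]
    rintro x (rfl | rfl) k
    · refine ⟨tget aTab (k % 660), ?_⟩
      have h := List.all_eq_true.mp mul_a_hh (k % 660) (List.mem_range.mpr (Nat.mod_lt _ (by norm_num)))
      rw [beq_iff_eq] at h
      rw [show eN gA = aN from exists_gA.choose_spec, ← h, hh, hh, Nat.mod_mod]
    · refine ⟨tget bTab (k % 660), ?_⟩
      have h := List.all_eq_true.mp mul_b_hh (k % 660) (List.mem_range.mpr (Nat.mod_lt _ (by norm_num)))
      rw [beq_iff_eq] at h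
      rw [show eN gB = bN from exists_gB.choose_spec, ← h, hh, hh, Nat.mod_mod]
  obtain ⟨l, hl⟩ := hle hg 0
  exact ⟨l, by rw [← hl, hh_zero, ← eN_one, ← eN_mul, mul_one]⟩

theorem rr_mem : ∀ i : ℕ, ∃ g ∈ J1, eN g = rr i := by
  suffices h : ∀ i < 266, ∃ g ∈ J1, eN g = rr i by
    intro i
    have e : rr i = rr (i % 266) := by simp [rr]
    exact e ▸ h _ (Nat.mod_lt _ (by norm_num))
  intro i hi
  induction i using Nat.strong_induction_on with
  | _ i ih =>
  have hp := List.all_eq_true.mp rr_parent i (List.mem_range.mpr hi)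
  simp only [Bool.or_eq_true, beq_iff_eq, Bool.and_eq_true, Nat.blt_eq] at hp
  rcases hp with h0 | ⟨hlt, he⟩
  · exact ⟨1, one_mem _, by rw [h0, eN_one, rr_zero]⟩
  · obtain ⟨g, hg, hge⟩ := ih _ hlt (hlt.trans hi)
    refine ⟨(if tget rParGen i == 0 then jankoX else jankoY) * g, mul_mem ?_ hg, ?_⟩
    · split
      · exact Subgroup.subset_closure (Or.inl rfl)
      · exact Subgroup.subset_closure (Or.inr rfl)
    · have hgen : eN (if tget rParGen i == 0 then jankoX else jankoY) = rGen i := by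
        rw [rGen]
        cases tget rParGen i == 0
        · exact eN_jankoY
        · exact eN_jankoX
      rw [eN_mul, hgen, hge, he]

/-- Every element of `J1` lies in some coset `r H`. -/
theorem exists_coset {g : G7} (hg : g ∈ J1) :
    ∃ r h : G7, ∃ i, i < 266 ∧ eN r = rr i ∧ h ∈ Hsub ∧ g = r * h := by
  let U : Set G7 := {g | ∃ r h : G7, ∃ i, i < 266 ∧ eN r = rr i ∧ h ∈ Hsub ∧ g = r * h}
  let M : Submonoid G7 :=
    { carrier := {x | ∀ u ∈ U, x * u ∈ U}
      one_mem' := fun u hu => by rwa [one_mul]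
      mul_mem' := fun {x y} hx hy u hu => by rw [mul_assoc]; exact hx _ (hy u hu) }
  have step : ∀ (s : G7) (tr th : List (List ℕ)) (sN : ℕ), eN s = sN →
      ((List.range 266).all fun i => mulN sN (rr i) == mulN (rr (tget tr i)) (hh (tget th i))) = true →
      s ∈ M := by
    rintro s tr th sN hs ht u ⟨r, h, i, hi, hr, hh', rfl⟩
    obtain ⟨r', -, hr'⟩ := rr_mem (tget tr i)
    obtain ⟨h', hh'', hhe⟩ := hh_mem (tget th i)
    have he := List.all_eq_true.mp ht i (List.mem_range.mpr hi)
    rw [beq_iff_eq, ← hs, ← hr, ← hr', ← hhe, ← eN_mul, ← eN_mul] at he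
    refine ⟨r', h' * h, tget tr i % 266, Nat.mod_lt _ (by norm_num), ?_, mul_mem hh'' hh', ?_⟩
    · rw [hr', rr, rr, Nat.mod_mod]
    · rw [← mul_assoc, eN_injective he, mul_assoc]
  have hle : J1 ≤ ⟨M, fun {x} hx => by
      have h : x⁻¹ = x ^ (orderOf x - 1) := by
        rw [inv_eq_iff_mul_eq_one, ← pow_succ', Nat.sub_add_cancel (orderOf_pos x), pow_orderOf_eq_one]
      rw [h]; exact M.pow_mem hx _⟩ := by
    rw [J1, Subgroup.closure_le]
    rintro x (rfl | rfl)
    · exact step _ _ _ _ eN_jankoX mul_x_rr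
    · exact step _ _ _ _ eN_jankoY mul_y_rr
  have h1 := hle hg 1 ⟨1, 1, 0, by norm_num, by rw [eN_one, rr_zero], one_mem _, (one_mul 1).symm⟩
  rwa [mul_one] at h1

/-- Every element of `J1` is killed by 6, 7, 10, 11, 15 or 19. -/
theorem exists_exponent {g : G7} (hg : g ∈ J1) : ∃ e ∈ expo, g ^ e = 1 := by
  obtain ⟨r, h, i, hi, hr, hh', rfl⟩ := exists_coset hg
  have hd := List.all_eq_true.mp double_coset i (List.mem_range.mpr hi)
  simp only [Bool.and_eq_true, beq_iff_eq, List.contains_iff_mem] at hd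
  obtain ⟨hc, hd⟩ := hd
  obtain ⟨a, ha, hae⟩ := hh_mem (tget dcLeft i)
  obtain ⟨b, hb, hbe⟩ := hh_mem (tget dcRight i)
  obtain ⟨c, -, hce⟩ := rr_mem (tget dcTab i)
  rw [← hae, ← hbe, ← hce, ← hr, ← eN_mul, ← eN_mul] at hd
  obtain ⟨k, hk⟩ := exists_hh (mul_mem (mul_mem hb hh') ha)
  have key : ∀ (r0 : ℕ) (tab : List (List ℕ)), tget dcTab i = r0 → CosetChecked r0 tab →
      ∃ e ∈ expo, (c * (b * h * a)) ^ e = 1 := by
    intro r0 tab e0 hchk
    have hm := List.all_eq_true.mp hchk (k % 660) (List.mem_range.mpr (Nat.mod_lt _ (by norm_num)))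
    rw [beq_iff_eq, ← e0, ← hce, show hh (k % 660) = hh k by simp [hh], ← hk, ← eN_mul, ← eN_pow,
      ← eN_one] at hm
    refine ⟨_, ?_, eN_injective hm⟩
    have hlt : tget tab (k % 660) % 6 < expo.length := Nat.mod_lt _ (by norm_num)
    rw [List.getD_eq_getElem _ _ hlt]
    exact List.getElem_mem hlt
  have hex : ∃ e ∈ expo, (c * (b * h * a)) ^ e = 1 := by
    simp only [dcReps, List.mem_cons, List.not_mem_nil, or_false] at hc
    rcases hc with e | e | e | e | e
    · exact key _ _ e order0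
    · exact key _ _ e order1
    · exact key _ _ e order2
    · exact key _ _ e order3
    · exact key _ _ e order4
  obtain ⟨e, he, he1⟩ := hex
  refine ⟨e, he, ?_⟩
  rw [← eN_injective hd, show a * c * b * h = a * (c * (b * h * a)) * a⁻¹ by group, conj_pow, he1]
  simp

theorem exists_orderOf {n : ℕ} (hn : n ∈ expo) : ∃ g ∈ J1, orderOf g = n := by
  have hw : ∀ w : List Bool, ∃ g ∈ J1, eN g = wordN w := by
    intro w
    induction w with
    | nil => exact ⟨1, one_mem _, eN_one⟩
    | cons b w ih =>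
      obtain ⟨g, hg, hge⟩ := ih
      refine ⟨(bif b then jankoY else jankoX) * g, mul_mem ?_ hg, ?_⟩
      · cases b
        · exact Subgroup.subset_closure (Or.inl rfl)
        · exact Subgroup.subset_closure (Or.inr rfl)
      · rw [eN_mul, hge, wordN]
        cases b
        · rw [cond_false, cond_false, eN_jankoX]
        · rw [cond_true, cond_true, eN_jankoY]
  obtain ⟨w, hwm, rfl⟩ : ∃ w ∈ witness, w.1 = n := by
    simp only [expo, List.mem_cons, List.not_mem_nil, or_false] at hn
    rcases hn with rfl | rfl | rfl | rfl | rfl | rfl <;> simp [witness]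
  obtain ⟨g, hg, hge⟩ := hw w.2
  have h := List.all_eq_true.mp witness_order w hwm
  simp only [Bool.and_eq_true, beq_iff_eq, List.all_eq_true, List.mem_range, Bool.or_eq_true,
    bne_iff_ne, ← hge, ← eN_pow, ← eN_one] at h
  refine ⟨g, hg, (orderOf_eq_iff ?_).mpr ⟨eN_injective h.1, fun m hm hm0 he => ?_⟩⟩
  · simp only [witness, List.mem_cons, List.not_mem_nil, or_false] at hwm
    rcases hwm with rfl | rfl | rfl | rfl | rfl | rfl <;> norm_num
  · rcases h.2 m hm with e | e
    · omega
    · exact e (congrArg eN he)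

end CfsgLib.J1
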