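/-
An involution centralizer in J1 is a direct product of a group of order two and A5.
-/
import Cfsg.Agent.Lib.J1.Spectrum

set_option autoImplicit false
set_option maxRecDepth 8000

namespace CfsgLib.J1

open Cfsg.Spor

local notation "G7" => GL (Fin 7) (ZMod 11)

/-- The chosen involution. -/
def tN : ℕ := hh 2

/-- A copy of A5 commuting with it: permutation code, coset and subgroup index. -/
def a5Data : List (ℕ × ℕ × ℕ) := [
  (194, 0, 0), (222, 4, 639), (238, 71, 279), (298, 101, 476), (334, 4, 632), (366, 71, 80),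
  (414, 101, 238), (446, 0, 361), (482, 71, 591), (542, 101, 69), (558, 0, 177), (586, 4, 20),
  (698, 24, 320), (714, 233, 362), (742, 51, 108), (894, 101, 558), (970, 233, 444), (978, 51, 376),
  (1022, 101, 555), (1054, 24, 210), (1110, 51, 191), (1138, 101, 228), (1190, 24, 360), (1202, 233, 137),
  (1294, 24, 245), (1346, 129, 177), (1358, 200, 80), (1398, 0, 280), (1454, 129, 361), (1490, 200, 591),
  (1634, 0, 384), (1670, 24, 70), (1726, 200, 279), (1766, 0, 448), (1778, 24, 542), (1830, 129, 0),
  (1922, 233, 398), (1934, 129, 448), (1986, 33, 600), (2014, 4, 80), (2070, 129, 384), (2102, 33, 530),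
  (2146, 4, 591), (2154, 233, 404), (2230, 33, 500), (2382, 4, 279), (2410, 233, 265), (2426, 129, 280),
  (2538, 51, 138), (2566, 200, 639), (2582, 33, 242), (2642, 71, 20), (2678, 200, 632), (2710, 33, 576),
  (2758, 71, 639), (2790, 51, 363), (2826, 33, 486), (2886, 71, 632), (2902, 51, 223), (2930, 200, 20)]

/-- The code of a permutation of five points. -/
def permCode (σ : Fin 5 → Fin 5) : ℕ :=
  ((((σ 0 : ℕ) * 5 + σ 1) * 5 + σ 2) * 5 + σ 3) * 5 + σ 4

def entryVal (e : ℕ × ℕ × ℕ) : ℕ := mulN (rr e.2.1) (hh e.2.2)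

def codeComp (p q : ℕ) : ℕ :=
  let d : ℕ → ℕ := fun j => p / 5 ^ (4 - j) % 5
  let e : ℕ → ℕ := fun j => q / 5 ^ (4 - j) % 5
  (((d (e 0) * 5 + d (e 1)) * 5 + d (e 2)) * 5 + d (e 3)) * 5 + d (e 4)

def imgOf (c : ℕ) : ℕ := ((a5Data.find? fun e => e.1 == c).map entryVal).getD 0

def centList : List ℕ := a5Data.map entryVal ++ a5Data.map fun e => mulN tN (entryVal e)

theorem t_checked : (powN tN 2 == oneN && tN != oneN) = true := by decide +kernel

theorem hom_checked : (a5Data.all fun p => a5Data.all fun q =>
    mulN (entryVal p) (entryVal q) == imgOf (codeComp p.1 q.1) && a5Data.any fun e => e.1 == codeComp p.1 q.1) = true := by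
  decide +kernel

theorem imgOf_checked : (a5Data.all fun p => imgOf p.1 == entryVal p && mulN tN (entryVal p) == mulN (entryVal p) tN) = true := by
  decide +kernel

theorem cent_nodup : centList.Nodup := by decide +kernel

theorem cover_checked : ∀ σ : Equiv.Perm (Fin 5), Equiv.Perm.sign σ = 1 → (a5Data.any fun e => e.1 == permCode σ) = true := by
  decide +kernel

/-- The check on one coset. -/
def rowOK (i : ℕ) : Bool :=
  (List.range 660).all fun k =>
    mulN tN (mulN (rr i) (hh k)) != mulN (mulN (rr i) (hh k)) tN || centList.contains (mulN (rr i) (hh k))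

end CfsgLib.J1
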