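/-
Coset checks for the involution centralizer.
-/
import Cfsg.Agent.Lib.J1.Centralizer

set_option autoImplicit false
set_option maxRecDepth 8000

namespace CfsgLib.J1

theorem rows_B : ((List.range' 90 90).all rowOK) = true := by decide +kernel

end CfsgLib.J1
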