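/-
The centralizer of the chosen involution of J1.
-/
import Cfsg.Agent.Lib.J1.CentRowsA
import Cfsg.Agent.Lib.J1.CentRowsB
import Cfsg.Agent.Lib.J1.CentRowsC

set_option autoImplicit false
set_option maxRecDepth 8000

namespace CfsgLib.J1

open Cfsg.Spor

local notation "G7" => GL (Fin 7) (ZMod 11)

theorem row_ok {i : ℕ} (hi : i < 266) : rowOK i = true := by
  by_cases h1 : i < 90
  · exact List.all_eq_true.mp rows_A i (List.mem_range'_1.mpr ⟨Nat.zero_le _, by omega⟩)
  by_cases h2 : i < 180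
  · exact List.all_eq_true.mp rows_B i (List.mem_range'_1.mpr ⟨by omega, by omega⟩)
  exact List.all_eq_true.mp rows_C i (List.mem_range'_1.mpr ⟨by omega, by omega⟩)

theorem gens_words : mulN (hh 12) (hh 150) = aN ∧ mulN (hh 14) (hh 212) = bN ∧
    tget xTabH 96 = 12 ∧ tget xTabH 179 = 150 ∧ tget xTabH 153 = 14 ∧ tget yTabH 200 = 212 := by decide +kernel

theorem hstep {sN : ℕ} {s : G7} (hs : s ∈ J1) (hsN : eN s = sN) (tr th : List (List ℕ))
    (ht : ((List.range 266).all fun i => mulN sN (rr i) == mulN (rr (tget tr i)) (hh (tget th i))) = true)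
    {i : ℕ} (hi : i < 266) {g : G7} (hg : eN g = hh (tget th i)) : g ∈ J1 := by
  obtain ⟨r, hr, hre⟩ := rr_mem i
  obtain ⟨r', hr', hre'⟩ := rr_mem (tget tr i)
  have he := List.all_eq_true.mp ht i (List.mem_range.mpr hi)
  rw [beq_iff_eq, ← hsN, ← hre, ← hre', ← hg, ← eN_mul, ← eN_mul] at he
  rw [show g = r'⁻¹ * (s * r) by rw [eN_injective he, inv_mul_cancel_left]]
  exact mul_mem (inv_mem hr') (mul_mem hs hr)

theorem Hsub_le_J1 : Hsub ≤ J1 := by
  obtain ⟨wa, wb, e1, e2, e3, e4⟩ := gens_words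
  have hx : jankoX ∈ J1 := Subgroup.subset_closure (Or.inl rfl)
  have hy : jankoY ∈ J1 := Subgroup.subset_closure (Or.inr rfl)
  obtain ⟨g1, -, h1⟩ := hh_mem 12
  obtain ⟨g2, -, h2⟩ := hh_mem 150
  obtain ⟨g3, -, h3⟩ := hh_mem 14
  obtain ⟨g4, -, h4⟩ := hh_mem 212
  have m1 := hstep hx eN_jankoX _ _ mul_x_rr (i := 96) (by norm_num) (g := g1) (h1.trans (by rw [e1]))
  have m2 := hstep hx eN_jankoX _ _ mul_x_rr (i := 179) (by norm_num) (g := g2) (h2.trans (by rw [e2]))
  have m3 := hstep hx eN_jankoX _ _ mul_x_rr (i := 153) (by norm_num) (g := g3) (h3.trans (by rw [e3]))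
  have m4 := hstep hy eN_jankoY _ _ mul_y_rr (i := 200) (by norm_num) (g := g4) (h4.trans (by rw [e4]))
  rw [Hsub, Subgroup.closure_le]
  rintro x (rfl | rfl)
  · have : gA = g1 * g2 := eN_injective (by rw [eN_mul, h1, h2, wa]; exact exists_gA.choose_spec)
    exact this ▸ mul_mem m1 m2
  · have : gB = g3 * g4 := eN_injective (by rw [eN_mul, h3, h4, wb]; exact exists_gB.choose_spec)
    exact this ▸ mul_mem m3 m4

theorem code_inj : ∀ σ τ : Equiv.Perm (Fin 5), permCode σ = permCode τ → σ = τ := by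
  intro σ τ h
  have hb : ∀ (ρ : Equiv.Perm (Fin 5)) (i : Fin 5), permCode ρ / 5 ^ (4 - (i : ℕ)) % 5 = (ρ i : ℕ) := by
    intro ρ i
    have := (ρ 0).isLt; have := (ρ 1).isLt; have := (ρ 2).isLt; have := (ρ 3).isLt; have := (ρ 4).isLt
    fin_cases i <;> simp [permCode] <;> omega
  ext i
  rw [← hb σ i, ← hb τ i, h]

theorem codeComp_eq (σ τ : Equiv.Perm (Fin 5)) :
    codeComp (permCode σ) (permCode τ) = permCode (σ * τ : Equiv.Perm (Fin 5)) := by
  have hb : ∀ (ρ : Equiv.Perm (Fin 5)) (j : ℕ) (hj : j < 5), permCode ρ / 5 ^ (4 - j) % 5 = (ρ ⟨j, hj⟩ : ℕ) := by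
    intro ρ j hj
    have := (ρ 0).isLt; have := (ρ 1).isLt; have := (ρ 2).isLt; have := (ρ 3).isLt; have := (ρ 4).isLt
    interval_cases j <;> simp [permCode] <;> omega
  simp only [codeComp]
  rw [hb τ 0 (by norm_num), hb τ 1 (by norm_num), hb τ 2 (by norm_num), hb τ 3 (by norm_num), hb τ 4 (by norm_num)]
  simp only [hb σ _ (Fin.is_lt _)]
  rfl

theorem exists_val {e : ℕ × ℕ × ℕ} : ∃ g ∈ J1, eN g = entryVal e := by
  obtain ⟨r, hr, hre⟩ := rr_mem e.2.1
  obtain ⟨h, hh', hhe⟩ := hh_mem e.2.2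
  exact ⟨r * h, mul_mem hr (Hsub_le_J1 hh'), by rw [eN_mul, hre, hhe, entryVal]⟩

theorem exists_entry (σ : alternatingGroup (Fin 5)) :
    ∃ e ∈ a5Data, e.1 = permCode (σ : Equiv.Perm (Fin 5)) := by
  have := cover_checked σ.1 (Equiv.Perm.mem_alternatingGroup.mp σ.2)
  simpa only [List.any_eq_true, beq_iff_eq] using this

theorem imgOf_entry {e : ℕ × ℕ × ℕ} (he : e ∈ a5Data) :
    imgOf e.1 = entryVal e ∧ mulN tN (entryVal e) = mulN (entryVal e) tN := by
  have := List.all_eq_true.mp imgOf_checked e he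
  simpa only [Bool.and_eq_true, beq_iff_eq] using this

theorem data_count : a5Data.length = 60 ∧ (a5Data.map Prod.fst).Nodup := by decide +kernel

/-- Every table entry is the code of an even permutation. -/
theorem data_perm (e : ℕ × ℕ × ℕ) (he : e ∈ a5Data) :
    ∃ σ : alternatingGroup (Fin 5), permCode (σ : Equiv.Perm (Fin 5)) = e.1 := by
  classical
  let F : alternatingGroup (Fin 5) → (a5Data.map Prod.fst).toFinset := fun σ =>
    ⟨permCode (σ : Equiv.Perm (Fin 5)), by
      obtain ⟨d, hd, hdc⟩ := exists_entry σ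
      exact List.mem_toFinset.mpr (List.mem_map.mpr ⟨d, hd, hdc⟩)⟩
  have hF : Function.Bijective F := by
    refine (Nat.bijective_iff_injective_and_card F).mpr ⟨fun σ τ h => Subtype.ext (code_inj _ _ (congrArg Subtype.val h)), ?_⟩
    rw [Nat.card_eq_finsetCard, List.toFinset_card_of_nodup data_count.2, List.length_map, data_count.1,
      nat_card_alternatingGroup, Nat.card_fin]
    rfl
  obtain ⟨σ, hσ⟩ := hF.2 ⟨e.1, List.mem_toFinset.mpr (List.mem_map.mpr ⟨e, he, rfl⟩)⟩
  exact ⟨σ, congrArg Subtype.val hσ⟩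

theorem tN_eq : tN = hh 2 := rfl

attribute [local irreducible] eN a5Data hh rr tN imgOf entryVal mulN

theorem exists_centralizer_equiv : ∃ t : ↥Cfsg.Spor.J1, orderOf t = 2 ∧
    Nonempty (↥(Subgroup.centralizer ({t} : Set ↥Cfsg.Spor.J1)) ≃* Multiplicative (ZMod 2) × ↥(alternatingGroup (Fin 5))) := by
  classical
  obtain ⟨t0, ht0, hte⟩ := hh_mem 2
  have htc := t_checked
  simp only [Bool.and_eq_true, beq_iff_eq, bne_iff_ne] at htc
  set t : J1 := ⟨t0, Hsub_le_J1 ht0⟩ with ht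
  have hte' : eN (t : G7) = tN := hte.trans tN_eq.symm
  have ht2 : t ^ 2 = 1 := Subtype.ext (eN_injective (by
    rw [SubgroupClass.coe_pow, eN_pow, hte', htc.1, OneMemClass.coe_one, eN_one]))
  have ht1 : t ≠ 1 := fun h => htc.2 (by rw [← hte', h, OneMemClass.coe_one, eN_one])
  refine ⟨t, orderOf_eq_prime ht2 ht1, ?_⟩
  -- the copy of A5
  have hex : ∀ σ : alternatingGroup (Fin 5), ∃ g : J1, eN (g : G7) = imgOf (permCode (σ : Equiv.Perm (Fin 5))) := by
    intro σ
    obtain ⟨e, he, hec⟩ := exists_entry σ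
    obtain ⟨g, hg, hge⟩ := exists_val (e := e)
    exact ⟨⟨g, hg⟩, by rw [← hec, (imgOf_entry he).1]; exact hge⟩
  choose φ hφ using hex
  have hmul : ∀ σ τ, φ (σ * τ) = φ σ * φ τ := by
    intro σ τ
    obtain ⟨p, hp, hpc⟩ := exists_entry σ
    obtain ⟨q, hq, hqc⟩ := exists_entry τ
    have h := List.all_eq_true.mp hom_checked p hp
    have h' := List.all_eq_true.mp h q hq
    simp only [Bool.and_eq_true, beq_iff_eq] at h'
    apply Subtype.ext
    apply eN_injective
    show eN ((φ (σ * τ) : J1) : G7) = eN (((φ σ : J1) : G7) * ((φ τ : J1) : G7))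
    rw [eN_mul, hφ, hφ, hφ, ← hpc, ← hqc, (imgOf_entry hp).1, (imgOf_entry hq).1, h'.1, hpc, hqc, codeComp_eq]
    rfl
  have hcom : ∀ σ, Commute t (φ σ) := by
    intro σ
    obtain ⟨p, hp, hpc⟩ := exists_entry σ
    apply Subtype.ext
    apply eN_injective
    show eN (((t : J1) : G7) * ((φ σ : J1) : G7)) = eN (((φ σ : J1) : G7) * ((t : J1) : G7))
    rw [eN_mul, eN_mul, hφ, hte', ← hpc, (imgOf_entry hp).1]
    exact (imgOf_entry hp).2
  let tp : Multiplicative (ZMod 2) → J1 := fun z => t ^ z.toAdd.val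
  have htp : ∀ a b, tp (a * b) = tp a * tp b := by
    intro a b
    show t ^ (a.toAdd + b.toAdd).val = _
    rw [ZMod.val_add, ← pow_add, ← pow_eq_pow_mod _ ht2]
  let f : Multiplicative (ZMod 2) × alternatingGroup (Fin 5) →* Subgroup.centralizer ({t} : Set J1) :=
    MonoidHom.mk' (fun x => ⟨tp x.1 * φ x.2, Subgroup.mem_centralizer_singleton_iff.mpr
      ((((Commute.refl t).pow_right _).mul_right (hcom x.2)).eq.symm)⟩) fun x y => Subtype.ext (by
      show tp (x.1 * y.1) * φ (x.2 * y.2) = tp x.1 * φ x.2 * (tp y.1 * φ y.2)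
      rw [htp, hmul]
      exact ((hcom x.2).pow_left _).mul_mul_mul_comm _ _)
  have hsurj : Function.Surjective f := by
    rintro ⟨g, hg⟩
    obtain ⟨r, h, i, hi, hr, hh', hgr⟩ := exists_coset g.2
    obtain ⟨k, hk⟩ := exists_hh hh'
    have hrow := row_ok hi
    unfold rowOK at hrow
    rw [List.all_eq_true] at hrow
    have hck := hrow (k % 660) (List.mem_range.mpr (Nat.mod_lt k (Nat.succ_pos 659)))
    rw [show hh (k % 660) = hh k by simp [hh], ← hr, ← hk, ← eN_mul, ← hgr, ← hte', ← eN_mul, ← eN_mul] at hck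
    simp only [Bool.or_eq_true, bne_iff_ne, List.contains_iff_mem] at hck
    have hcm : (t : G7) * (g : G7) = (g : G7) * (t : G7) :=
      congrArg Subtype.val (Subgroup.mem_centralizer_singleton_iff.mp hg).symm
    rcases hck with h' | h'
    · exact absurd (congrArg eN hcm) h'
    · rw [centList, List.mem_append, List.mem_map, List.mem_map] at h'
      have hsig : ∀ e ∈ a5Data, ∃ σ, eN ((φ σ : J1) : G7) = entryVal e := by
        intro e he
        obtain ⟨σ, hσ⟩ := data_perm e he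
        exact ⟨σ, by rw [hφ, hσ, (imgOf_entry he).1]⟩
      rcases h' with ⟨e, he, hev⟩ | ⟨e, he, hev⟩ <;> obtain ⟨σ, hσ⟩ := hsig e he
      · refine ⟨(1, σ), Subtype.ext (Subtype.ext (eN_injective ?_))⟩
        show eN ((tp 1 * φ σ : J1) : G7) = eN (g : G7)
        rw [show tp 1 = 1 from pow_zero t, one_mul, hσ, hev]
      · refine ⟨(Multiplicative.ofAdd 1, σ), Subtype.ext (Subtype.ext (eN_injective ?_))⟩
        show eN ((tp (Multiplicative.ofAdd 1) * φ σ : J1) : G7) = eN (g : G7)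
        rw [show tp (Multiplicative.ofAdd 1) = t from pow_one t, Subgroup.coe_mul, eN_mul, hte', hσ, hev]
  have hinj : Function.Injective f := by
    intro x y hxy
    have hval : ∀ σ, ∃ e ∈ a5Data, e.1 = permCode (σ : alternatingGroup (Fin 5)).1 ∧ eN ((φ σ : J1) : G7) = entryVal e :=
      fun σ => by
        obtain ⟨e, he, hec⟩ := exists_entry σ
        exact ⟨e, he, hec, by rw [hφ, ← hec, (imgOf_entry he).1]⟩
    have h0 : tp x.1 * φ x.2 = tp y.1 * φ y.2 := congrArg Subtype.val hxy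
    have hxy' : eN (((tp x.1 * φ x.2 : J1) : G7)) = eN (((tp y.1 * φ y.2 : J1) : G7)) := by rw [h0]
    have hnd := cent_nodup
    rw [centList, List.nodup_append] at hnd
    obtain ⟨hnd1, hnd2, hdis⟩ := hnd
    have hz : ∀ z : Multiplicative (ZMod 2), z = 1 ∨ z = Multiplicative.ofAdd 1 := by decide
    obtain ⟨e, he, hec, hev⟩ := hval x.2
    obtain ⟨d, hd, hdc, hdv⟩ := hval y.2
    have hsame : e = d → x.2 = y.2 := fun h => Subtype.ext (code_inj _ _ (by rw [← hec, ← hdc, h]))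
    have hmem1 : ∀ u ∈ a5Data, entryVal u ∈ a5Data.map entryVal := fun u hu => List.mem_map_of_mem hu
    have hmem2 : ∀ u ∈ a5Data, mulN tN (entryVal u) ∈ a5Data.map fun e => mulN tN (entryVal e) :=
      fun u hu => List.mem_map.mpr ⟨u, hu, rfl⟩
    rcases hz x.1 with hx | hx <;> rcases hz y.1 with hy | hy <;>
      rw [hx, hy] at hxy' <;>
      simp only [show tp 1 = 1 from pow_zero t, show tp (Multiplicative.ofAdd 1) = t from pow_one t, one_mul,
        Subgroup.coe_mul, eN_mul, hte', hev, hdv] at hxy'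
    · exact Prod.ext (hx.trans hy.symm) (hsame (List.inj_on_of_nodup_map hnd1 he hd hxy'))
    · exact absurd hxy' (hdis _ (hmem1 e he) _ (hmem2 d hd))
    · exact absurd hxy'.symm (hdis _ (hmem1 d hd) _ (hmem2 e he))
    · exact Prod.ext (hx.trans hy.symm) (hsame (List.inj_on_of_nodup_map hnd2 he hd hxy'))
  exact ⟨(MulEquiv.ofBijective f ⟨hinj, hsurj⟩).symm⟩

end CfsgLib.J1
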