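/-
The group J1 generated by Janko's matrices has order 175560 and is simple.
-/
import Cfsg.Agent.Lib.J1.CentEquiv
import Cfsg.Prelude.Def_Sporadic

set_option autoImplicit false
set_option maxRecDepth 8000

namespace CfsgLib.J1

open Cfsg.Spor

local notation "G7" => GL (Fin 7) (ZMod 11)

theorem hh_nodup : ((List.range 660).map hh).Nodup := by decide +kernel

theorem rr_notin : ((List.range 266).all fun j => j == 0 ||
    (List.range 660).all fun k => rr j != hh k) = true := by decide +kernel

/-- A table gives an injection of `{0, …, 265}`. -/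
def tabInj (tr : List (List ℕ)) : Bool :=
  (List.range 266).all fun i => Nat.blt (tget tr i) 266 &&
    (List.range 266).all fun j => i == j || tget tr i != tget tr j

theorem tables_ok : tabInj xTabR = true ∧ tabInj yTabR = true ∧
    ((List.range 266).all fun i => i == 0 ||
      tget (bif tget rParGen i == 0 then xTabR else yTabR) (tget rParIdx i) == i) = true := by decide +kernel

/-- Two cosets agree. -/
def SameCoset (i j : ℕ) : Prop := ∃ r r' : G7, eN r = rr i ∧ eN r' = rr j ∧ r⁻¹ * r' ∈ Hsub

theorem sameCoset_step {s : G7} {tr th : List (List ℕ)}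
    (ht : ((List.range 266).all fun i => mulN (eN s) (rr i) == mulN (rr (tget tr i)) (hh (tget th i))) = true)
    {i j : ℕ} (hi : i < 266) (hj : j < 266) (h : SameCoset (tget tr i) (tget tr j)) : SameCoset i j := by
  obtain ⟨a, a', ha, ha', hm⟩ := h
  obtain ⟨r, -, hr⟩ := rr_mem i
  obtain ⟨r', -, hr'⟩ := rr_mem j
  obtain ⟨u, hu, hue⟩ := hh_mem (tget th i)
  obtain ⟨u', hu', hue'⟩ := hh_mem (tget th j)
  have e1 := List.all_eq_true.mp ht i (List.mem_range.mpr hi)
  have e2 := List.all_eq_true.mp ht j (List.mem_range.mpr hj)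
  rw [beq_iff_eq, ← hr, ← ha, ← hue, ← eN_mul, ← eN_mul] at e1
  rw [beq_iff_eq, ← hr', ← ha', ← hue', ← eN_mul, ← eN_mul] at e2
  refine ⟨r, r', hr, hr', ?_⟩
  rw [show r⁻¹ * r' = (s * r)⁻¹ * (s * r') by group, eN_injective e1, eN_injective e2,
    show (a * u)⁻¹ * (a' * u') = u⁻¹ * (a⁻¹ * a') * u' by group]
  exact mul_mem (mul_mem (inv_mem hu) hm) hu'

theorem table_surj {tr : List (List ℕ)} (h : tabInj tr = true) (j : ℕ) (hj : j < 266) :
    ∃ i, i < 266 ∧ tget tr i = j := by
  unfold tabInj at h
  simp only [List.all_eq_true, Bool.and_eq_true, Nat.blt_eq, Bool.or_eq_true, beq_iff_eq, bne_iff_ne,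
    List.mem_range] at h
  have hinj : Function.Injective (fun i : Fin 266 => (⟨tget tr i, (h i i.2).1⟩ : Fin 266)) := by
    intro a b hab
    rcases (h a a.2).2 b b.2 with e | e
    · exact Fin.ext e
    · exact absurd (congrArg Fin.val hab) e
  obtain ⟨i, hi⟩ := (Finite.injective_iff_surjective.mp hinj) ⟨j, hj⟩
  exact ⟨i, i.2, congrArg Fin.val hi⟩

theorem sameCoset_eq {j i : ℕ} (hi : i < 266) (hj : j < 266) (h : SameCoset i j) : j = i := by
  induction i using Nat.strong_induction_on generalizing j with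
  | _ i ih =>
  obtain ⟨tx, ty, hp⟩ := tables_ok
  have hp' := List.all_eq_true.mp hp i (List.mem_range.mpr hi)
  simp only [Bool.or_eq_true, beq_iff_eq] at hp'
  rcases hp' with h0 | hpi
  · subst h0
    by_contra hne
    obtain ⟨r, r', hr, hr', hm⟩ := h
    have hr1 : r = 1 := eN_injective (by rw [hr, rr_zero, eN_one])
    rw [hr1, inv_one, one_mul] at hm
    obtain ⟨k, hk⟩ := exists_hh hm
    have := List.all_eq_true.mp rr_notin j (List.mem_range.mpr hj)
    simp only [Bool.or_eq_true, beq_iff_eq, List.all_eq_true, bne_iff_ne, List.mem_range] at this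
    rcases this with e | e
    · exact hne e
    · exact e (k % 660) (Nat.mod_lt _ (by norm_num)) (by rw [← hr', hk]; simp [hh])
  · by_cases hi0 : i = 0
    · subst hi0
      by_contra hne
      obtain ⟨r, r', hr, hr', hm⟩ := h
      have hr1 : r = 1 := eN_injective (by rw [hr, rr_zero, eN_one])
      rw [hr1, inv_one, one_mul] at hm
      obtain ⟨k, hk⟩ := exists_hh hm
      have := List.all_eq_true.mp rr_notin j (List.mem_range.mpr hj)
      simp only [Bool.or_eq_true, beq_iff_eq, List.all_eq_true, bne_iff_ne, List.mem_range] at this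
      rcases this with e | e
      · exact hne e
      · exact e (k % 660) (Nat.mod_lt _ (by norm_num)) (by rw [← hr', hk]; simp [hh])
    have hq := List.all_eq_true.mp rr_parent i (List.mem_range.mpr hi)
    simp only [Bool.or_eq_true, beq_iff_eq, Bool.and_eq_true, Nat.blt_eq] at hq
    have hlt : tget rParIdx i < i := hq.elim (fun e => absurd e hi0) (fun e => e.1)
    have key : ∀ (s : G7) (tr th : List (List ℕ)), tabInj tr = true →
        ((List.range 266).all fun i => mulN (eN s) (rr i) == mulN (rr (tget tr i)) (hh (tget th i))) = true →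
        tget tr (tget rParIdx i) = i → j = i := by
      intro s tr th htr hstep' he
      obtain ⟨j', hj', rfl⟩ := table_surj htr j hj
      rw [← he] at h
      rw [ih _ hlt (hlt.trans hi) hj' (sameCoset_step hstep' (hlt.trans hi) hj' h), he]
    cases hb : (tget rParGen i == 0) <;> rw [hb] at hpi
    · exact key jankoY yTabR yTabH ty (by rw [eN_jankoY]; exact mul_y_rr) hpi
    · exact key jankoX xTabR xTabH tx (by rw [eN_jankoX]; exact mul_x_rr) hpi

theorem card_J1 : Nat.card ↥J1 = 175560 := by
  choose R hR hRe using rr_mem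
  choose U hU hUe using hh_mem
  let f : Fin 266 × Fin 660 → ↥J1 := fun p => ⟨R p.1 * U p.2, mul_mem (hR _) (Hsub_le_J1 (hU _))⟩
  have hf : Function.Bijective f := by
    constructor
    · rintro ⟨i, k⟩ ⟨i', k'⟩ he
      have he' : R i * U k = R i' * U k' := congrArg Subtype.val he
      have hs : SameCoset i i' := ⟨R i, R i', hRe _, hRe _, by
        rw [show (R i)⁻¹ * R i' = U k * (U k')⁻¹ by
          rw [eq_mul_inv_iff_mul_eq, mul_assoc, ← he', inv_mul_cancel_left]]
        exact mul_mem (hU _) (inv_mem (hU _))⟩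
      have hii : i' = i := Fin.ext (sameCoset_eq i.2 i'.2 hs)
      subst hii
      have hk : hh k = hh k' := by rw [← hUe, ← hUe, mul_left_cancel he']
      have hkk := List.inj_on_of_nodup_map hh_nodup (List.mem_range.mpr k.2) (List.mem_range.mpr k'.2) hk
      rw [Fin.ext hkk]
    · rintro ⟨g, hg⟩
      obtain ⟨r, h, i, hi, hr, hh', rfl⟩ := exists_coset hg
      obtain ⟨k, hk⟩ := exists_hh hh'
      refine ⟨(⟨i, hi⟩, ⟨k % 660, Nat.mod_lt _ (by norm_num)⟩), Subtype.ext ?_⟩
      show R i * U (k % 660) = r * h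
      rw [eN_injective ((hRe i).trans hr.symm),
        eN_injective (show eN (U (k % 660)) = eN h by rw [hUe, hk]; simp [hh])]
  rw [← Nat.card_eq_of_bijective f hf, Nat.card_prod, Nat.card_fin, Nat.card_fin]

/-- Commuting elements of distinct prime orders `p, q` with `pq` not dividing an exponent do not exist. -/
theorem not_commute {p q : ℕ} (hpq : Nat.Coprime p q) (hno : ∀ e ∈ expo, ¬ p * q ∣ e) {x y : ↥J1}
    (hx : orderOf x = p) (hy : orderOf y = q) : ¬ Commute x y := by
  intro h
  obtain ⟨e, he, hpow⟩ := exists_exponent (x * y).2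
  refine hno e he ?_
  have ho : orderOf (x * y) = p * q := by
    rw [h.orderOf_mul_eq_mul_orderOf_of_coprime (by rw [hx, hy]; exact hpq), hx, hy]
  rw [← ho]
  exact orderOf_dvd_of_pow_eq_one (Subtype.ext (by rw [Subgroup.coe_pow]; exact hpow))

theorem not_dvd_sq {k : ℕ} (p : ℕ) (hp : p = 7 ∨ p = 19) (h : p ^ k ∣ 175560) : k ≤ 1 := by
  by_contra hk
  push Not at hk
  have := (pow_dvd_pow p hk).trans h
  rcases hp with rfl | rfl <;> norm_num at this

/-- An element of order 7 or 19 acts fixed-point-freely on a normalised subgroup of coprime order. -/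
theorem card_mod {p : ℕ} [Fact p.Prime] (hspec : ∀ e ∈ expo, p ∣ e → e = p) (K : Subgroup ↥J1) {g : ↥J1}
    (hgK : g ∈ Subgroup.normalizer (K : Set ↥J1)) (hg : orderOf g = p) (hpn : ¬ p ∣ Nat.card K) :
    Nat.card K % p = 1 % p := by
  haveI : Finite ↥J1 := Nat.finite_of_card_ne_zero (by rw [card_J1]; norm_num)
  set g' : Subgroup.normalizer (K : Set ↥J1) := ⟨g, hgK⟩ with hg'
  let A := Subgroup.zpowers g'
  have hA : IsPGroup p A := IsPGroup.of_card (n := 1) (by
    rw [Nat.card_zpowers, hg', Subgroup.orderOf_mk, hg, pow_one])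
  letI : MulAction A K :=
    MulAction.compHom K ((Subgroup.normalizerMonoidHom K).comp A.subtype)
  have hfix : MulAction.fixedPoints A K = ({1} : Set K) := by
    ext n
    rw [Set.mem_singleton_iff, MulAction.mem_fixedPoints]
    constructor
    · intro hn
      by_contra hn1
      have hc : Commute g (n : ↥J1) := by
        have := congrArg Subtype.val (hn ⟨g', Subgroup.mem_zpowers g'⟩)
        change g * (n : ↥J1) * g⁻¹ = (n : ↥J1) at this
        exact mul_inv_eq_iff_eq_mul.mp this
      obtain ⟨q, hq, i, hi⟩ := Nat.exists_prime_and_dvd (orderOf_eq_one_iff.not.mpr hn1)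
      have hi0 : i ≠ 0 := fun e => (orderOf_pos n).ne' (by rw [hi, e, mul_zero])
      have hqn : orderOf (((n : ↥J1)) ^ i) = q := by
        rw [orderOf_pow, Subgroup.orderOf_coe, hi, Nat.gcd_mul_left_left,
          Nat.mul_div_cancel _ (Nat.pos_of_ne_zero hi0)]
      have hqN : q ∣ Nat.card K := (Dvd.intro i hi.symm).trans (orderOf_dvd_natCard n)
      have hqp : q ≠ p := fun e => hpn (e ▸ hqN)
      refine not_commute ((Nat.coprime_primes Fact.out hq).mpr hqp.symm) (fun e he hd => ?_) hg hqn
        (hc.pow_right i)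
      have := hspec e he ((Dvd.intro q rfl).trans hd)
      rw [this] at hd
      have := Nat.le_of_dvd (Nat.Prime.pos Fact.out) hd
      have := hq.two_le
      have := (Fact.out : p.Prime).pos
      nlinarith
    · rintro rfl a
      exact map_one (Subgroup.normalizerMonoidHom K (a : Subgroup.normalizer (K : Set ↥J1)))
  have := hA.card_modEq_card_fixedPoints K
  rw [hfix, Nat.card_coe_set_eq, Set.ncard_singleton] at this
  exact this

theorem gen_J1 : Subgroup.closure
    ({⟨jankoX, Subgroup.subset_closure (Or.inl rfl)⟩, ⟨jankoY, Subgroup.subset_closure (Or.inr rfl)⟩} : Set ↥J1) = ⊤ := by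
  apply Subgroup.map_injective J1.subtype_injective
  rw [MonoidHom.map_closure, ← MonoidHom.range_eq_map, Subgroup.range_subtype, Set.image_pair]
  rfl

theorem isJ1 : Cfsg.IsJ1 ↥J1 := by
  refine ⟨?_, card_J1⟩
  set gx : ↥J1 := ⟨jankoX, Subgroup.subset_closure (Or.inl rfl)⟩ with hgx
  set gy : ↥J1 := ⟨jankoY, Subgroup.subset_closure (Or.inr rfl)⟩ with hgy
  haveI : Finite ↥J1 := Nat.finite_of_card_ne_zero (by rw [card_J1]; norm_num)
  have hw : ∀ (w : List Bool) (n : ℕ), (n, w) ∈ witness →
      (w.map fun b => bif b then gy else gx).prod ^ n = 1 := by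
    have hval : ∀ w : List Bool, eN ((w.map fun b => bif b then gy else gx).prod : ↥J1) = wordN w := by
      intro w
      induction w with
      | nil => exact eN_one
      | cons b w ih =>
        rw [List.map_cons, List.prod_cons, Subgroup.coe_mul, eN_mul, ih, wordN]
        cases b
        · rw [cond_false, cond_false, hgx, eN_jankoX]
        · rw [cond_true, cond_true, hgy, eN_jankoY]
    intro w n hwn
    have h := List.all_eq_true.mp witness_order (n, w) hwn
    simp only [Bool.and_eq_true, beq_iff_eq] at h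
    apply Subtype.ext
    apply eN_injective
    rw [Subgroup.coe_pow, eN_pow, hval, h.1, Subgroup.coe_one, eN_one]
  have hx7 : gx ^ 7 = 1 := by simpa using hw [false] 7 (by simp [witness])
  have hxy10 : (gx * gy) ^ 10 = 1 := by simpa using hw [false, true] 10 (by simp [witness])
  have hxyy : (gx * (gy * gy)) ^ 11 = 1 := by simpa using hw [false, true, true] 11 (by simp [witness])
  have hxxxy : (gx * (gx * (gx * gy))) ^ 19 = 1 := by
    simpa using hw [false, false, false, true] 19 (by simp [witness])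
  have hgx1 : gx ≠ 1 := fun e => by
    have := congrArg (fun g : ↥J1 => eN (g : G7)) e
    simp only [hgx, Subgroup.coe_one, eN_jankoX, eN_one] at this
    exact absurd this (by decide +kernel)
  haveI : Fact (Nat.Prime 7) := ⟨by norm_num⟩
  haveI : Fact (Nat.Prime 19) := ⟨by norm_num⟩
  haveI : Nontrivial ↥J1 := ⟨⟨gx, 1, hgx1⟩⟩
  constructor
  intro N hN
  haveI := hN
  by_contra hcon
  push Not at hcon
  obtain ⟨hbot, htop⟩ := hcon
  -- `7` divides `|N|`
  have h7 : 7 ∣ Nat.card N := by
    by_contra h7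
    have hox : orderOf gx = 7 := orderOf_eq_prime hx7 hgx1
    obtain ⟨z, hzJ, hoz⟩ := exists_orderOf (n := 19) (by simp [expo])
    have hoz' : orderOf (⟨z, hzJ⟩ : ↥J1) = 19 := by rw [← hoz, Subgroup.orderOf_mk]
    have hdvd : Nat.card N ∣ 175560 := card_J1 ▸ Subgroup.card_subgroup_dvd_card N
    have hnorm : ∀ g : ↥J1, g ∈ Subgroup.normalizer (N : Set ↥J1) := fun g => by
      rw [Subgroup.normalizer_eq_top]; exact Subgroup.mem_top g
    have hs7 : ∀ e ∈ expo, 7 ∣ e → e = 7 := by decide
    have hs19 : ∀ e ∈ expo, 19 ∣ e → e = 19 := by decide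
    have hn7 := card_mod hs7 N (hnorm gx) hox h7
    by_cases h19 : 19 ∣ Nat.card N
    · -- an element of order 7 normalises a Sylow 19-subgroup of `N`
      obtain ⟨P⟩ : Nonempty (Sylow 19 N) := inferInstance
      obtain ⟨k, hk⟩ := IsPGroup.iff_card.mp P.isPGroup'
      have hk1 : k = 1 := by
        have h1 : k ≤ 1 := not_dvd_sq 19 (Or.inr rfl)
          ((hk ▸ Subgroup.card_subgroup_dvd_card _ : 19 ^ k ∣ Nat.card N).trans hdvd)
        have h2 : 19 ∣ Nat.card (P : Subgroup N) := P.dvd_card_of_dvd_card h19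
        rw [hk] at h2
        interval_cases k
        · norm_num at h2
        · rfl
      subst hk1
      set M := Subgroup.normalizer (((P : Subgroup N).map N.subtype : Subgroup ↥J1) : Set ↥J1) with hM
      have hfr : M ⊔ N = ⊤ := P.normalizer_sup_eq_top
      have hM7 : 7 ∣ Nat.card M := by
        have hsurj : Function.Surjective ((QuotientGroup.mk' N).comp M.subtype) := by
          intro q
          obtain ⟨g, rfl⟩ := QuotientGroup.mk'_surjective N q
          obtain ⟨m, hm, n, hn, rfl⟩ := Subgroup.mem_sup_of_normal_right.mp (hfr ▸ Subgroup.mem_top g)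
          refine ⟨⟨m, hm⟩, ?_⟩
          rw [map_mul, (QuotientGroup.mk'_apply N n), (QuotientGroup.eq_one_iff n).mpr hn, mul_one]
          rfl
        have h1 : 7 ∣ Nat.card (↥J1 ⧸ N) := by
          have h2 : 7 ∣ Nat.card (↥J1 ⧸ N) * Nat.card N := by
            rw [← Subgroup.card_eq_card_quotient_mul_card_subgroup, card_J1]; norm_num
          exact ((Nat.Prime.dvd_mul (by norm_num)).mp h2).resolve_right h7
        exact h1.trans (Subgroup.card_dvd_of_surjective _ hsurj)
      obtain ⟨y, hy⟩ := exists_prime_orderOf_dvd_card' (G := M) 7 hM7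
      have hc : Nat.card ((P : Subgroup N).map N.subtype) = 19 := by
        rw [Subgroup.card_map_of_injective N.subtype_injective, hk, pow_one]
      have := card_mod hs7 _ (g := (y : ↥J1)) y.2 (by rw [Subgroup.orderOf_coe, hy]) (by rw [hc]; norm_num)
      rw [hc] at this
      norm_num at this
    · have hn19 := card_mod hs19 N (hnorm ⟨z, hzJ⟩) hoz' h19
      have hd : Nat.card N ∣ 1320 := by
        have h1 : Nat.Coprime (Nat.card N) 133 :=
          Nat.Coprime.mul_right ((Nat.Prime.coprime_iff_not_dvd (by norm_num : Nat.Prime 7)).mpr h7).symm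
            ((Nat.Prime.coprime_iff_not_dvd (by norm_num : Nat.Prime 19)).mpr h19).symm
        exact h1.dvd_of_dvd_mul_right (by simpa using hdvd)
      have hne : Nat.card N ≠ 1 := fun e => hbot (Subgroup.card_eq_one.mp e)
      have hdec : ∀ d ∈ Nat.divisors 1320, d % 7 = 1 % 7 → d % 19 = 1 % 19 → d = 1 := by decide +kernel
      exact hne (hdec _ (Nat.mem_divisors.mpr ⟨hd, by norm_num⟩) hn7 hn19)
  apply htop
  -- so `N` contains `X`
  have hXN : gx ∈ N := by
    obtain ⟨c, hc⟩ := exists_prime_orderOf_dvd_card' (G := N) 7 h7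
    have hsyl : ∀ u : ↥J1, orderOf u = 7 → ∃ Q : Sylow 7 ↥J1, (Q : Subgroup ↥J1) = Subgroup.zpowers u := by
      intro u hu
      obtain ⟨Q, hQ⟩ := (IsPGroup.of_card (n := 1) (by rw [Nat.card_zpowers, hu, pow_one]) :
        IsPGroup 7 (Subgroup.zpowers u)).exists_le_sylow
      refine ⟨Q, (Subgroup.eq_of_le_of_card_ge hQ ?_).symm⟩
      obtain ⟨k, hk⟩ := IsPGroup.iff_card.mp Q.isPGroup'
      have hk1 : k ≤ 1 := not_dvd_sq 7 (Or.inl rfl) (card_J1 ▸ hk ▸ Subgroup.card_subgroup_dvd_card _)
      rw [hk, Nat.card_zpowers, hu]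
      interval_cases k <;> norm_num
    obtain ⟨Q, hQ⟩ := hsyl c (by rw [Subgroup.orderOf_coe, hc])
    obtain ⟨R, hR⟩ := hsyl gx (orderOf_eq_prime hx7 hgx1)
    obtain ⟨u, hu⟩ := MulAction.exists_smul_eq ↥J1 Q R
    have hmem : gx ∈ (R : Subgroup ↥J1) := hR ▸ Subgroup.mem_zpowers gx
    rw [← hu, Sylow.coe_subgroup_smul, Subgroup.mem_pointwise_smul_iff_inv_smul_mem, hQ] at hmem
    have hmem' : (MulAut.conj u)⁻¹ • gx ∈ N := (Subgroup.zpowers_le.mpr c.2) hmem
    have := hN.conj_mem _ hmem' u
    simpa [MulAut.inv_def, MulAut.conj_symm_apply, mul_assoc] using this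
  rw [eq_top_iff, ← gen_J1, Subgroup.closure_le]
  let m := QuotientGroup.mk' N
  have m1 : m gx = 1 := (QuotientGroup.eq_one_iff _).mpr hXN
  have e10 := congrArg m hxy10
  have e11 := congrArg m hxyy
  have e19 := congrArg m hxxxy
  simp only [map_pow, map_mul, map_one, m1, one_mul] at e10 e11 e19
  rintro _ (rfl | rfl)
  · exact hXN
  · have e2 : m gy ^ 2 = 1 := by
      rw [← pow_two] at e11
      rw [← pow_mul] at e11
      have := pow_gcd_eq_one.mpr ⟨e10, e11⟩
      simpa using this
    have := pow_gcd_eq_one.mpr ⟨e2, e19⟩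
    exact (QuotientGroup.eq_one_iff gy).mp (show m gy = 1 by simpa using this)

end CfsgLib.J1
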