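import Cfsg.Agent.Lib.J1.Data
import Cfsg.Prelude.Def_Spor_J1

/-! Kernel-checked facts about the tables for `J1`. -/

set_option autoImplicit false

namespace CfsgLib.J1

/-- Indexing into a chunked table. -/
def tget (l : List (List ℕ)) (k : ℕ) : ℕ := (l.getD (k / 20) []).getD (k % 20) 0

def hh (k : ℕ) : ℕ := tget hData (k % 660)

def rr (i : ℕ) : ℕ := tget rData (i % 266)

def hGen (k : ℕ) : ℕ := bif tget hParGen k == 0 then aN else bN

def rGen (i : ℕ) : ℕ := bif tget rParGen i == 0 then xN else yN

def powN (M : ℕ) : ℕ → ℕ
  | 0 => oneN
  | n + 1 => mulN (powN M n) M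

def expo : List ℕ := [6, 7, 10, 11, 15, 19]

theorem hh_zero : hh 0 = oneN := by decide +kernel

theorem rr_zero : rr 0 = oneN := by decide +kernel

theorem hh_parent : ((List.range 660).all fun k => k == 0 ||
    (Nat.blt (tget hParIdx k) k && mulN (hGen k) (hh (tget hParIdx k)) == hh k)) = true := by
  decide +kernel

theorem rr_parent : ((List.range 266).all fun i => i == 0 ||
    (Nat.blt (tget rParIdx i) i && mulN (rGen i) (rr (tget rParIdx i)) == rr i)) = true := by
  decide +kernel

theorem mul_a_hh : ((List.range 660).all fun k =>
    mulN aN (hh k) == hh (tget aTab k)) = true := by decide +kernel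

theorem mul_b_hh : ((List.range 660).all fun k =>
    mulN bN (hh k) == hh (tget bTab k)) = true := by decide +kernel

theorem mul_x_rr : ((List.range 266).all fun i =>
    mulN xN (rr i) == mulN (rr (tget xTabR i)) (hh (tget xTabH i))) = true := by decide +kernel

theorem mul_y_rr : ((List.range 266).all fun i =>
    mulN yN (rr i) == mulN (rr (tget yTabR i)) (hh (tget yTabH i))) = true := by decide +kernel

theorem double_coset : ((List.range 266).all fun i => dcReps.contains (tget dcTab i) &&
    mulN (mulN (hh (tget dcLeft i)) (rr (tget dcTab i))) (hh (tget dcRight i)) == rr i) = true := by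
  decide +kernel

/-- Every element of the coset `r H` is killed by one of the exponents. -/
def CosetChecked (r : ℕ) (tab : List (List ℕ)) : Prop :=
  ((List.range 660).all fun k =>
    powN (mulN (rr r) (hh k)) (expo.getD (tget tab k % 6) 6) == oneN) = true

theorem order0 : CosetChecked 0 ord0 := by unfold CosetChecked; decide +kernel

theorem order1 : CosetChecked 1 ord1 := by unfold CosetChecked; decide +kernel

theorem order2 : CosetChecked 3 ord2 := by unfold CosetChecked; decide +kernel

theorem order3 : CosetChecked 4 ord3 := by unfold CosetChecked; decide +kernel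

theorem order4 : CosetChecked 5 ord4 := by unfold CosetChecked; decide +kernel

/-- Words in the generators (`false` is X, `true` is Y) of orders 6, 7, 10, 11, 15, 19. -/
def witness : List (ℕ × List Bool) :=
  [(7, [false]), (10, [false, true]), (11, [false, true, true]), (19, [false, false, false, true]),
    (6, [false, true, true, true]), (15, [false, false, true, true, false, true, false, true, true])]

/-- Value of a word. -/
def wordN : List Bool → ℕ
  | [] => oneN
  | b :: w => mulN (bif b then yN else xN) (wordN w)

theorem witness_order : (witness.all fun w =>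
    powN (wordN w.2) w.1 == oneN &&
    ((List.range w.1).all fun j => j == 0 || powN (wordN w.2) j != oneN)) = true := by
  decide +kernel

theorem gens_eq : encM 1 = oneN ∧ encM aM = aN ∧ encM bM = bN ∧
    encM Cfsg.jankoMatrixX = xN ∧ encM Cfsg.jankoMatrixY = yN := by decide +kernel

theorem gens_order : powN aN 11 = oneN ∧ powN bN 2 = oneN := by decide +kernel

end CfsgLib.J1
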