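import Mathlib

/-! Packed arithmetic for 7 × 7 matrices over `ZMod 11`. -/

set_option autoImplicit false

namespace CfsgLib.J1

/-- The matrix of natural numbers `f`, packed: entry `(i, k)` sits at bit `140 i + 20 k`. -/
def enc (f : Fin 7 → Fin 7 → ℕ) : ℕ :=
  ∑ i : Fin 7, (∑ k : Fin 7, f i k * (2 ^ 20) ^ (k : ℕ)) * (2 ^ 140) ^ (i : ℕ)

def colMask : ℕ := 7687689901136609905900397148992792005224593714676466511956871794350777369520623378046199278912624254017379829119682499771930997542494648678220377859454037483919293518099108537138125443965970303916660702259394701016420067967839881238339610256528040132818763775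

def rowMask : ℕ := 1393796574908163946345982392040522594123775

def divMask : ℕ := 1237656059768596629074162356460028046825167019608088989139180620291703178665212497089870602943930036741610311743049117237623096180600386564584354071112441916647717606065101638222124052158388850378512284471375191223730707093281639140424947428420147565007205300991242027053407899233320352874623

/-- The product before reduction modulo 11. -/
def rawMul (A B : ℕ) : ℕ :=
  ((A >>> 0) &&& colMask) * ((B >>> 0) &&& rowMask) +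
  ((A >>> 20) &&& colMask) * ((B >>> 140) &&& rowMask) +
  ((A >>> 40) &&& colMask) * ((B >>> 280) &&& rowMask) +
  ((A >>> 60) &&& colMask) * ((B >>> 420) &&& rowMask) +
  ((A >>> 80) &&& colMask) * ((B >>> 560) &&& rowMask) +
  ((A >>> 100) &&& colMask) * ((B >>> 700) &&& rowMask) +
  ((A >>> 120) &&& colMask) * ((B >>> 840) &&& rowMask)

/-- Reduction of every entry modulo 11. -/
def reduce (x : ℕ) : ℕ := x - 11 * (((x * 745) >>> 13) &&& divMask)

/-- The packed product. -/
def mulN (A B : ℕ) : ℕ := reduce (rawMul A B)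

theorem colMask_eq : colMask = enc fun _ k => if k = 0 then 2 ^ 20 - 1 else 0 := by decide +kernel

theorem rowMask_eq : rowMask = 2 ^ 140 - 1 := by decide +kernel

theorem divMask_eq : divMask = enc fun _ _ => 127 := by decide +kernel

theorem digit_sum {B : ℕ} (hB : 0 < B) : ∀ {n : ℕ} (f : Fin n → ℕ), (∀ i, f i < B) →
    (∑ i : Fin n, f i * B ^ (i : ℕ)) < B ^ n ∧
      ∀ j : Fin n, (∑ i : Fin n, f i * B ^ (i : ℕ)) / B ^ (j : ℕ) % B = f j := by
  intro n
  induction n with
  | zero => exact fun f _ => ⟨by simp, fun j => j.elim0⟩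
  | succ n ih =>
    intro f hf
    obtain ⟨h1, h2⟩ := ih (fun i => f i.succ) fun i => hf _
    have e : (∑ i : Fin (n + 1), f i * B ^ (i : ℕ)) =
        f 0 + B * ∑ i : Fin n, f i.succ * B ^ (i : ℕ) := by
      rw [Fin.sum_univ_succ, Finset.mul_sum]
      simp [pow_succ]
      exact Finset.sum_congr rfl fun i _ => by ring
    rw [e]
    generalize hS : (∑ i : Fin n, f i.succ * B ^ (i : ℕ)) = S at h1 h2
    refine ⟨?_, fun j => ?_⟩
    · have := hf 0
      calc f 0 + B * S < B * (S + 1) := by rw [mul_add, mul_one]; omega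
        _ ≤ B * B ^ n := Nat.mul_le_mul_left _ h1
        _ = B ^ (n + 1) := by ring
    · refine Fin.cases ?_ (fun i => ?_) j
      · simp [Nat.mod_eq_of_lt (hf 0)]
      · rw [Fin.val_succ, pow_succ', ← Nat.div_div_eq_div_mul, Nat.add_mul_div_left _ _ hB,
          Nat.div_eq_of_lt (hf 0), zero_add]
        exact h2 i

theorem eq_sum_digits {B : ℕ} (hB : 0 < B) : ∀ (n x : ℕ), x < B ^ n →
    x = ∑ i : Fin n, x / B ^ (i : ℕ) % B * B ^ (i : ℕ) := by
  intro n
  induction n with
  | zero => intro x hx; simp at hx; simp [hx]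
  | succ n ih =>
    intro x hx
    rw [Fin.sum_univ_succ]
    have h := ih (x / B) (Nat.div_lt_of_lt_mul (by rwa [← pow_succ']))
    calc x = x % B + B * (x / B) := (Nat.mod_add_div x B).symm
      _ = _ := by
        conv_lhs => arg 2; rw [h]
        rw [Finset.mul_sum]
        simp [pow_succ', ← Nat.div_div_eq_div_mul]
        exact Finset.sum_congr rfl fun i _ => by ring

theorem inner_lt {f : Fin 7 → Fin 7 → ℕ} (hf : ∀ i k, f i k < 2 ^ 20) (i : Fin 7) :
    (∑ k : Fin 7, f i k * (2 ^ 20) ^ (k : ℕ)) < 2 ^ 140 := by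
  have h := (digit_sum (by norm_num) (f i) (hf i)).1
  rwa [← pow_mul, show 20 * 7 = 140 from rfl] at h

theorem enc_lt {f : Fin 7 → Fin 7 → ℕ} (hf : ∀ i k, f i k < 2 ^ 20) : enc f < 2 ^ 980 := by
  have h := (digit_sum (by norm_num) _ (inner_lt hf)).1
  rwa [← pow_mul, show 140 * 7 = 980 from rfl] at h

theorem row_enc {f : Fin 7 → Fin 7 → ℕ} (hf : ∀ i k, f i k < 2 ^ 20) (i : Fin 7) :
    enc f / 2 ^ (140 * (i : ℕ)) % 2 ^ 140 = ∑ k : Fin 7, f i k * (2 ^ 20) ^ (k : ℕ) := by
  rw [pow_mul]; exact (digit_sum (by norm_num) _ (inner_lt hf)).2 i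

theorem sub_digit {a b c : ℕ} (x : ℕ) (h : b + c ≤ a) :
    x % 2 ^ a / 2 ^ b % 2 ^ c = x / 2 ^ b % 2 ^ c := by
  obtain ⟨d, rfl⟩ := Nat.exists_eq_add_of_le h
  rw [show b + c + d = b + (c + d) by ring, pow_add, Nat.mod_mul_right_div_self,
    Nat.mod_mod_of_dvd _ (pow_dvd_pow 2 (Nat.le_add_right c d))]

theorem entry_enc {f : Fin 7 → Fin 7 → ℕ} (hf : ∀ i k, f i k < 2 ^ 20) (i k : Fin 7) :
    enc f / 2 ^ (140 * (i : ℕ) + 20 * (k : ℕ)) % 2 ^ 20 = f i k := by
  rw [pow_add, ← Nat.div_div_eq_div_mul,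
    ← sub_digit _ (show 20 * (k : ℕ) + 20 ≤ 140 by omega), row_enc hf i, pow_mul]
  exact (digit_sum (by norm_num) (f i) (hf i)).2 k

theorem eq_enc {x : ℕ} (hx : x < 2 ^ 980) {f : Fin 7 → Fin 7 → ℕ}
    (h : ∀ i k : Fin 7, x / 2 ^ (140 * (i : ℕ) + 20 * (k : ℕ)) % 2 ^ 20 = f i k) : x = enc f := by
  rw [eq_sum_digits (B := 2 ^ 140) (by norm_num) 7 x (by rwa [← pow_mul]), enc]
  refine Finset.sum_congr rfl fun i _ => ?_
  congr 1
  rw [eq_sum_digits (B := 2 ^ 20) (by norm_num) 7 (x / (2 ^ 140) ^ (i : ℕ) % 2 ^ 140)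
    (by rw [← pow_mul]; exact Nat.mod_lt _ (by norm_num))]
  refine Finset.sum_congr rfl fun k _ => ?_
  congr 1
  rw [← pow_mul, ← pow_mul, sub_digit _ (show 20 * (k : ℕ) + 20 ≤ 140 by omega),
    Nat.div_div_eq_div_mul, ← pow_add]
  exact h i k

theorem col_eq {f : Fin 7 → Fin 7 → ℕ} (hf : ∀ i k, f i k < 2 ^ 20) (j : Fin 7) :
    (enc f >>> (20 * (j : ℕ))) &&& colMask = ∑ i : Fin 7, f i j * 2 ^ (140 * (i : ℕ)) := by
  set g : Fin 7 → Fin 7 → ℕ := fun i k => if k = 0 then f i j else 0 with hg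
  have hc : ∀ i k : Fin 7, (if k = 0 then 2 ^ 20 - 1 else 0) < 2 ^ 20 := by
    intro i k; split <;> norm_num
  refine Eq.trans (eq_enc (f := g) (Nat.and_le_right.trans_lt (enc_lt hc)) fun i k => ?_) ?_
  · rw [← Nat.shiftRight_eq_div_pow, Nat.shiftRight_and_distrib, ← Nat.shiftRight_add,
      Nat.and_mod_two_pow, Nat.shiftRight_eq_div_pow, Nat.shiftRight_eq_div_pow,
      entry_enc hc i k, hg]
    simp only
    by_cases hk : k = 0
    · subst hk
      rw [if_pos rfl, if_pos rfl, Nat.and_two_pow_sub_one_eq_mod, Nat.mod_mod]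
      rw [show 20 * (j : ℕ) + (140 * (i : ℕ) + 20 * ((0 : Fin 7) : ℕ)) = 140 * i + 20 * j by
        simp; ring]
      exact entry_enc hf i j
    · simp [hk]
  · rw [enc]
    refine Finset.sum_congr rfl fun i _ => ?_
    rw [Fin.sum_univ_seven, pow_mul]
    simp [hg]

theorem row_eq {f : Fin 7 → Fin 7 → ℕ} (hf : ∀ i k, f i k < 2 ^ 20) (j : Fin 7) :
    (enc f >>> (140 * (j : ℕ))) &&& rowMask = ∑ k : Fin 7, f j k * 2 ^ (20 * (k : ℕ)) := by
  rw [rowMask_eq, Nat.and_two_pow_sub_one_eq_mod, Nat.shiftRight_eq_div_pow, row_enc hf j]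
  simp only [← pow_mul]

theorem rawMul_enc {a b : Fin 7 → Fin 7 → ℕ} (ha : ∀ i k, a i k < 2 ^ 20)
    (hb : ∀ i k, b i k < 2 ^ 20) :
    rawMul (enc a) (enc b) = enc fun i k => ∑ j : Fin 7, a i j * b j k := by
  have h : rawMul (enc a) (enc b) = ∑ j : Fin 7, ((enc a >>> (20 * (j : ℕ))) &&& colMask) *
      ((enc b >>> (140 * (j : ℕ))) &&& rowMask) := by
    rw [Fin.sum_univ_seven, rawMul]; rfl
  rw [h]; simp only [col_eq ha, row_eq hb]; rw [enc]
  rw [Finset.sum_congr rfl fun j _ => Finset.sum_mul_sum _ _ _ _, Finset.sum_comm]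
  refine Finset.sum_congr rfl fun i _ => ?_
  rw [Finset.sum_mul, Finset.sum_comm]
  refine Finset.sum_congr rfl fun k _ => ?_
  rw [Finset.sum_mul, Finset.sum_mul]
  refine Finset.sum_congr rfl fun j _ => ?_
  rw [← pow_mul, ← pow_mul]; ring

theorem div_eleven : ∀ c < 701, c * 745 / 2 ^ 13 % 2 ^ 7 = c / 11 := by decide +kernel

theorem reduce_enc {c : Fin 7 → Fin 7 → ℕ} (hc : ∀ i k, c i k ≤ 700) :
    reduce (enc c) = enc fun i k => c i k % 11 := by
  have h1 : enc c * 745 = enc fun i k => c i k * 745 := by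
    simp only [enc, Finset.sum_mul]
    refine Finset.sum_congr rfl fun i _ => Finset.sum_congr rfl fun k _ => ?_
    ring
  have h745 : ∀ i k, c i k * 745 < 2 ^ 20 := fun i k => by have := hc i k; norm_num; omega
  have h127 : ∀ _i _k : Fin 7, 127 < 2 ^ 20 := fun _ _ => by norm_num
  have h2 : (enc c * 745) >>> 13 &&& divMask = enc fun i k => c i k / 11 := by
    refine eq_enc (Nat.and_le_right.trans_lt (enc_lt h127)) fun i k => ?_
    rw [← Nat.shiftRight_eq_div_pow, Nat.shiftRight_and_distrib, ← Nat.shiftRight_add,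
      Nat.and_mod_two_pow, Nat.shiftRight_eq_div_pow, Nat.shiftRight_eq_div_pow,
      entry_enc h127 i k, show (127 : ℕ) = 2 ^ 7 - 1 from rfl, Nat.and_two_pow_sub_one_eq_mod,
      Nat.mod_mod_of_dvd _ (by norm_num), h1]
    set e := 140 * (i : ℕ) + 20 * (k : ℕ) with he
    rw [add_comm 13 e, pow_add, ← Nat.div_div_eq_div_mul, ← sub_digit _ (show 13 + 7 ≤ 20 by norm_num),
      entry_enc h745 i k]
    exact div_eleven _ (Nat.lt_succ_of_le (hc i k))
  have h3 : enc c = (enc fun i k => c i k % 11) + 11 * enc fun i k => c i k / 11 := by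
    simp only [enc, Finset.mul_sum, Finset.sum_mul, ← Finset.sum_add_distrib]
    refine Finset.sum_congr rfl fun i _ => Finset.sum_congr rfl fun k _ => ?_
    nth_rewrite 1 [← Nat.mod_add_div (c i k) 11]
    ring
  rw [reduce, h2, h3]
  omega

/-- Packing of a matrix over `ZMod 11`. -/
def encM (M : Matrix (Fin 7) (Fin 7) (ZMod 11)) : ℕ := enc fun i k => (M i k).val

theorem val_lt (x : ZMod 11) : x.val < 2 ^ 20 := (ZMod.val_lt x).trans (by norm_num)

theorem encM_injective : Function.Injective encM := by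
  intro M N h
  ext i k
  apply ZMod.val_injective
  have h1 := entry_enc (f := fun i k => (M i k).val) (fun _ _ => val_lt _) i k
  have h2 := entry_enc (f := fun i k => (N i k).val) (fun _ _ => val_lt _) i k
  exact (h1.symm.trans (by rw [show enc (fun i k => (M i k).val) = enc fun i k => (N i k).val from h])).trans h2

theorem mulN_encM (M N : Matrix (Fin 7) (Fin 7) (ZMod 11)) :
    mulN (encM M) (encM N) = encM (M * N) := by
  rw [mulN, encM, encM, rawMul_enc (a := fun i k => (M i k).val) (b := fun i k => (N i k).val)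
    (fun _ _ => val_lt _) (fun _ _ => val_lt _), reduce_enc, encM]
  · congr
    funext i k
    rw [← ZMod.val_natCast, Nat.cast_sum, Matrix.mul_apply]
    refine congrArg ZMod.val (Finset.sum_congr rfl fun j _ => ?_)
    simp
  · intro i k
    refine (Finset.sum_le_card_nsmul _ _ 100 fun j _ => ?_).trans (by simp)
    exact Nat.mul_le_mul (Nat.le_of_lt_succ (ZMod.val_lt _)) (Nat.le_of_lt_succ (ZMod.val_lt _))

end CfsgLib.J1
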