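/-
Every automorphism of J1 is inner: a pair of generators of orders seven and three is unique up to conjugation.
-/
import Cfsg.Agent.Lib.J1.Order
import Cfsg.Agent.Lib.J1.OutData
import Cfsg.Prelude.Def_KGroupFacts

set_option autoImplicit false
set_option maxRecDepth 8000
set_option maxHeartbeats 1000000

namespace CfsgLib.J1

open Cfsg.Spor

local notation "G7" => GL (Fin 7) (ZMod 11)

/-! ### The checks -/

/-- The inverse of a coset representative. -/
def rinv (i : ℕ) : ℕ := mulN (rr (tget outRInvI i)) (hh (tget outRInvK i))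

/-- A conjugate of an element of order three. -/
def bCand (i u : ℕ) : ℕ := mulN (mulN (rr i) (hh u)) (rinv i)

def bN3 : ℕ := bCand outBi outBu

/-- The commutator with Janko's first generator. -/
def comX (b : ℕ) : ℕ := mulN (mulN xN b) (mulN (powN xN 6) (mulN b b))

/-- The test of a candidate. -/
def candOK (b : ℕ) : Bool :=
  powN (mulN xN b) 2 != oneN || powN (comX b) 19 != oneN || outOrbit.contains b

theorem rinv_checked : ((List.range 266).all fun i => mulN (rr i) (rinv i) == oneN) = true := by decide +kernel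

theorem out_step : ((List.range 266).all fun i => outThree.all fun u => candOK (bCand i u)) = true := by
  decide +kernel

theorem three_conj : ((List.range 660).all fun k => Nat.blt (tget outConj k) outThree.length &&
    mulN (hh k) (hh outU) == mulN (hh (outThree.getD (tget outConj k) 0)) (hh k)) = true := by decide +kernel

theorem three_facts : powN (hh outU) 3 = oneN ∧ hh outU ≠ oneN ∧ outSq < outThree.length ∧
    mulN (hh outU) (hh outU) = hh (outThree.getD outSq 0) ∧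
    ((List.range 660).any fun k => mulN (hh k) (hh outU) == mulN (mulN (hh outU) (hh outU)) (hh k)) = true := by
  decide +kernel

theorem gen_facts : powN xN 7 = oneN ∧ xN ≠ oneN ∧ powN bN3 3 = oneN ∧ bN3 ≠ oneN ∧
    powN (mulN xN bN3) 2 = oneN ∧ powN (comX bN3) 19 = oneN ∧
    ((List.range 7).all fun j => mulN (powN xN j) bN3 == mulN (outOrbit.getD j 0) (powN xN j)) = true ∧
    outOrbit.length = 7 ∧
    mulN (mulN (rr outNi) (hh outNk)) xN = mulN (powN xN 3) (mulN (rr outNi) (hh outNk)) := by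
  decide +kernel

/-- The value of a word in the two generators. -/
def outVal : List ℕ → ℕ
  | [] => oneN
  | g :: l => mulN (bif g == 0 then xN else bN3) (outVal l)

theorem out_word : outVal outWord = yN := by decide +kernel

attribute [local irreducible] eN hh rr tget mulN powN bCand bN3 comX outThree outOrbit outWord outVal

/-! ### Automorphisms -/

theorem finite_J1 : Finite ↥J1 := Nat.finite_of_card_ne_zero (by rw [card_J1]; norm_num)

/-- The packed value of an element. -/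
def eJ (g : ↥J1) : ℕ := eN (g : G7)

theorem eJ_injective : Function.Injective eJ := eN_injective.comp Subtype.val_injective

theorem eJ_mul (g h : ↥J1) : eJ (g * h) = mulN (eJ g) (eJ h) := by rw [eJ, eJ, eJ, Subgroup.coe_mul, eN_mul]

theorem eJ_one : eJ 1 = oneN := eN_one

theorem eJ_pow (g : ↥J1) (n : ℕ) : eJ (g ^ n) = powN (eJ g) n := by
  rw [eJ, eJ, Subgroup.coe_pow, eN_pow]

theorem exists_eJ_rr (i : ℕ) : ∃ g : ↥J1, eJ g = rr i := by
  obtain ⟨g, hg, he⟩ := rr_mem i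
  exact ⟨⟨g, hg⟩, he⟩

theorem exists_eJ_hh (k : ℕ) : ∃ g : ↥J1, eJ g = hh k := by
  obtain ⟨g, hg, he⟩ := hh_mem k
  exact ⟨⟨g, Hsub_le_J1 hg⟩, he⟩

/-- Elements of one prime order with Sylow subgroups of that order are powers of conjugates. -/
theorem exists_conj_pow {p : ℕ} [Fact p.Prime] (hp : ∀ k, p ^ k ∣ 175560 → k ≤ 1) {u v : ↥J1}
    (hu : orderOf u = p) (hv : orderOf v = p) : ∃ (g : ↥J1) (j : ℕ), 0 < j ∧ j < p ∧ v = g * u ^ j * g⁻¹ := by
  haveI := finite_J1
  have hsyl : ∀ w : ↥J1, orderOf w = p → ∃ Q : Sylow p ↥J1, (Q : Subgroup ↥J1) = Subgroup.zpowers w := by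
    intro w hw
    obtain ⟨Q, hQ⟩ := (IsPGroup.of_card (n := 1) (by rw [Nat.card_zpowers, hw, pow_one]) :
      IsPGroup p (Subgroup.zpowers w)).exists_le_sylow
    refine ⟨Q, (Subgroup.eq_of_le_of_card_ge hQ ?_).symm⟩
    obtain ⟨k, hk⟩ := IsPGroup.iff_card.mp Q.isPGroup'
    rw [hk, Nat.card_zpowers, hw]
    have h1 := hp k (card_J1 ▸ hk ▸ Subgroup.card_subgroup_dvd_card _)
    calc p ^ k ≤ p ^ 1 := Nat.pow_le_pow_right (Fact.out : p.Prime).pos h1
      _ = p := pow_one p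
  obtain ⟨Q, hQ⟩ := hsyl u hu
  obtain ⟨R, hR⟩ := hsyl v hv
  obtain ⟨g, hg⟩ := MulAction.exists_smul_eq ↥J1 Q R
  have hm : v ∈ (R : Subgroup ↥J1) := hR ▸ Subgroup.mem_zpowers v
  rw [← hg, Sylow.coe_subgroup_smul, Subgroup.mem_pointwise_smul_iff_inv_smul_mem, hQ] at hm
  obtain ⟨j, hj⟩ := (isOfFinOrder_of_finite u).mem_powers_iff_mem_zpowers.mpr hm
  have hj' : v = g * u ^ (j % p) * g⁻¹ := by
    rw [← hu, pow_mod_orderOf]
    have e : u ^ j = (MulAut.conj g)⁻¹ • v := hj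
    rw [e]
    simp [MulAut.inv_def, MulAut.conj_symm_apply, mul_assoc]
  refine ⟨g, j % p, Nat.pos_of_ne_zero fun h => ?_, Nat.mod_lt _ (Fact.out : p.Prime).pos, hj'⟩
  rw [h, pow_zero, mul_one, mul_inv_cancel] at hj'
  rw [hj', orderOf_one] at hv
  exact (Fact.out : p.Prime).one_lt.ne hv

theorem sylow_small {p : ℕ} (hp : p = 3 ∨ p = 7) (k : ℕ) (h : p ^ k ∣ 175560) : k ≤ 1 := by
  by_contra hk
  push Not at hk
  have := (pow_dvd_pow p hk).trans h
  rcases hp with rfl | rfl <;> norm_num at this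

theorem card_out_J1 : Nat.card (Cfsg.Out ↥J1) = 1 := by
  haveI := finite_J1
  haveI : Fact (Nat.Prime 3) := ⟨Nat.prime_three⟩
  haveI : Fact (Nat.Prime 7) := ⟨by norm_num⟩
  obtain ⟨f7, f71, f3, f31, frel, fcom, forb, flen, fn⟩ := gen_facts
  obtain ⟨u3, u31, usq, usqe, uinv⟩ := three_facts
  set a : ↥J1 := ⟨jankoX, Subgroup.subset_closure (Or.inl rfl)⟩ with ha
  have ea : eJ a = xN := eN_jankoX
  set y : ↥J1 := ⟨jankoY, Subgroup.subset_closure (Or.inr rfl)⟩ with hy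
  have ey : eJ y = yN := eN_jankoY
  obtain ⟨rb, erb⟩ := exists_eJ_rr outBi
  obtain ⟨hb, ehb⟩ := exists_eJ_hh outBu
  have erinv : ∀ i < 266, ∀ r : ↥J1, eJ r = rr i → eJ r⁻¹ = rinv i := by
    intro i hi r hr
    have h := List.all_eq_true.mp rinv_checked i (List.mem_range.mpr hi)
    rw [beq_iff_eq] at h
    obtain ⟨p, ep⟩ := exists_eJ_rr (tget outRInvI i)
    obtain ⟨q, eq'⟩ := exists_eJ_hh (tget outRInvK i)
    have h1 : r * (p * q) = 1 := eJ_injective (by
      rw [eJ_mul, eJ_mul, hr, ep, eq', eJ_one, ← h, rinv])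
    rw [inv_eq_of_mul_eq_one_right h1, eJ_mul, ep, eq', rinv]
  set b : ↥J1 := rb * hb * rb⁻¹ with hbdef
  have hbi : outBi < 266 := by decide
  have eb : eJ b = bN3 := by
    rw [hbdef, eJ_mul, eJ_mul, erb, ehb, erinv _ hbi rb erb, bN3, bCand]
  clear_value b
  clear hbdef
  have oa : orderOf a = 7 := orderOf_eq_prime (eJ_injective (by rw [eJ_pow, ea, f7, eJ_one]))
    (fun h => f71 (by rw [← ea, h, eJ_one]))
  have ob : orderOf b = 3 := orderOf_eq_prime (eJ_injective (by rw [eJ_pow, eb, f3, eJ_one]))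
    (fun h => f31 (by rw [← eb, h, eJ_one]))
  obtain ⟨rn, ern⟩ := exists_eJ_rr outNi
  obtain ⟨hn, ehn⟩ := exists_eJ_hh outNk
  set n := rn * hn with hndef
  have hna : n * a * n⁻¹ = a ^ 3 := mul_inv_eq_iff_eq_mul.mpr (eJ_injective (by
    rw [eJ_mul, eJ_mul, eJ_mul, eJ_mul, eJ_pow, ern, ehn, ea, fn]))
  obtain ⟨u, eu⟩ := exists_eJ_hh outU
  have ou : orderOf u = 3 := orderOf_eq_prime (eJ_injective (by rw [eJ_pow, eu, u3, eJ_one]))
    (fun h => u31 (by rw [← eu, h, eJ_one]))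
  -- generation
  have hgen : Subgroup.closure ({a, b} : Set ↥J1) = ⊤ := by
    rw [eq_top_iff, ← gen_J1, Subgroup.closure_le]
    have hw : ∀ l : List ℕ, ∃ g ∈ Subgroup.closure ({a, b} : Set ↥J1), eJ g = outVal l := by
      intro l
      induction l with
      | nil => exact ⟨1, one_mem _, by rw [eJ_one, outVal]⟩
      | cons g l ih =>
        obtain ⟨w, hw, hwe⟩ := ih
        cases hg : (g == 0)
        · exact ⟨b * w, mul_mem (Subgroup.subset_closure (Or.inr rfl)) hw, by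
            rw [eJ_mul, eb, hwe, outVal, hg, cond_false]⟩
        · exact ⟨a * w, mul_mem (Subgroup.subset_closure (Or.inl rfl)) hw, by
            rw [eJ_mul, ea, hwe, outVal, hg, cond_true]⟩
    obtain ⟨w, hw', hwe⟩ := hw outWord
    rw [out_word, ← ey] at hwe
    rintro _ (rfl | rfl)
    · exact Subgroup.subset_closure (Or.inl rfl)
    · show y ∈ Subgroup.closure ({a, b} : Set ↥J1)
      rw [← eJ_injective hwe]; exact hw'
  refine Nat.card_eq_one_iff_unique.mpr ⟨⟨fun x z => ?_⟩, ⟨1⟩⟩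
  suffices h : ∀ α : MulAut ↥J1, α ∈ Cfsg.Inn ↥J1 by
    obtain ⟨α, rfl⟩ := QuotientGroup.mk'_surjective _ x
    obtain ⟨β, rfl⟩ := QuotientGroup.mk'_surjective _ z
    rw [QuotientGroup.mk'_apply, QuotientGroup.mk'_apply, (QuotientGroup.eq_one_iff α).mpr (h α),
      (QuotientGroup.eq_one_iff β).mpr (h β)]
  intro α
  have inner : ∀ g, MulAut.conj g ∈ Cfsg.Inn ↥J1 := fun g => ⟨g, rfl⟩
  suffices h : ∃ g : ↥J1, α a = g * a * g⁻¹ ∧ α b = g * b * g⁻¹ by
    obtain ⟨g, h1, h2⟩ := h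
    rw [show α = MulAut.conj g from MulEquiv.toMonoidHom_injective (MonoidHom.eq_of_eqOn_dense hgen (by
      rintro _ (rfl | rfl)
      exacts [h1, h2]))]
    exact inner g
  -- move the image of the first generator
  obtain ⟨g, j, hj0, hj7, hga⟩ := exists_conj_pow (sylow_small (Or.inr rfl)) oa
    (v := α a) (by rw [MulEquiv.orderOf_eq, oa])
  have hpow : ∀ e : ℕ, n ^ e * a * (n ^ e)⁻¹ = a ^ (3 ^ e) := by
    intro e
    induction e with
    | zero => simp
    | succ e ih =>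
      calc n ^ (e + 1) * a * (n ^ (e + 1))⁻¹ = n * (n ^ e * a * (n ^ e)⁻¹) * n⁻¹ := by rw [pow_succ']; group
        _ = (n * a * n⁻¹) ^ (3 ^ e) := by rw [ih, conj_pow]
        _ = a ^ (3 ^ (e + 1)) := by rw [hna, ← pow_mul, ← pow_succ']
  have hlog : ∀ j < 7, 0 < j → ∃ e < 6, 3 ^ e % 7 = j := by decide
  obtain ⟨e, -, he⟩ := hlog j hj7 hj0
  have haj : a ^ j = n ^ e * a * (n ^ e)⁻¹ := by
    rw [hpow, ← pow_mod_orderOf a (3 ^ e), oa, he]
  set g1 := g * n ^ e with hg1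
  have hα1 : α a = g1 * a * g1⁻¹ := by rw [hga, haj, hg1]; group
  set b' := g1⁻¹ * α b * g1 with hb'
  -- relations
  have key : (MulAut.conj g1⁻¹ * α) a = a ∧ (MulAut.conj g1⁻¹ * α) b = b' := by
    constructor
    · show g1⁻¹ * α a * g1⁻¹⁻¹ = a
      rw [hα1]; group
    · show g1⁻¹ * α b * g1⁻¹⁻¹ = b'
      rw [hb', inv_inv]
  have hrel : (a * b') ^ 2 = 1 := by
    have h : (a * b) ^ 2 = 1 := eJ_injective (by rw [eJ_pow, eJ_mul, ea, eb, frel, eJ_one])
    have := congrArg (MulAut.conj g1⁻¹ * α) h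
    rwa [map_pow, map_mul, map_one, key.1, key.2] at this
  have hcom : ((a * b') * (a ^ 6 * (b' * b'))) ^ 19 = 1 := by
    have h : ((a * b) * (a ^ 6 * (b * b))) ^ 19 = 1 := eJ_injective (by
      rw [eJ_pow, eJ_mul, eJ_mul, eJ_mul, eJ_pow, eJ_mul, ea, eb, eJ_one, ← fcom, comX])
    have := congrArg (MulAut.conj g1⁻¹ * α) h
    rwa [map_pow, map_mul, map_mul, map_mul, map_pow, map_mul, map_one, key.1, key.2] at this
  -- the image of the second generator
  obtain ⟨g2, j2, hj20, hj23, hb2⟩ := exists_conj_pow (sylow_small (Or.inl rfl)) ou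
    (v := b') (by rw [hb', ← MulAut.conj_symm_apply, MulEquiv.orderOf_eq, MulEquiv.orderOf_eq, ob])
  obtain ⟨r, h, i, hi, hr, hh', hgr⟩ := exists_coset g2.2
  obtain ⟨k, hk⟩ := exists_hh hh'
  set r' : ↥J1 := ⟨r, by obtain ⟨r0, hr0, he0⟩ := rr_mem i; exact eN_injective (he0.trans hr.symm) ▸ hr0⟩
  set h' : ↥J1 := ⟨h, Hsub_le_J1 hh'⟩
  have hg2 : g2 = r' * h' := Subtype.ext hgr
  have hlist : ∀ c : ℕ, ∃ w, w < outThree.length ∧ mulN (hh c) (hh outU) = mulN (hh (outThree.getD w 0)) (hh c) := by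
    intro c
    have h := List.all_eq_true.mp three_conj (c % 660) (List.mem_range.mpr (Nat.mod_lt _ (by norm_num)))
    rw [Bool.and_eq_true, Nat.blt_eq, beq_iff_eq, show hh (c % 660) = hh c by simp [hh]] at h
    exact ⟨_, h.1, h.2⟩
  -- all powers lie among the conjugates of `u` under the point stabiliser
  have hupow : ∃ c : ℕ, mulN (hh c) (hh outU) = mulN (eJ (u ^ j2)) (hh c) := by
    interval_cases j2
    · obtain ⟨w, -, -⟩ := hlist 0
      exact ⟨0, by rw [pow_one, eu, hh_zero, ← eJ_one, ← eu, ← eJ_mul, ← eJ_mul, one_mul, mul_one]⟩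
    · rw [List.any_eq_true] at uinv
      obtain ⟨c, -, hc⟩ := uinv
      exact ⟨c, by rw [sq, eJ_mul, eu]; exact beq_iff_eq.mp hc⟩
  obtain ⟨c, hc⟩ := hupow
  obtain ⟨hcE, ehc⟩ := exists_eJ_hh c
  obtain ⟨m, hm, hmH⟩ : ∃ m : ↥J1, h' * hcE = m ∧ ∃ d, eJ m = hh d := by
    obtain ⟨x, hx, hxe⟩ := hh_mem c
    have hxx : (hcE : G7) = x := eN_injective (ehc.trans hxe.symm)
    exact ⟨_, rfl, exists_hh (g := ((h' * hcE : ↥J1) : G7)) (by rw [Subgroup.coe_mul, hxx]; exact mul_mem hh' hx)⟩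
  obtain ⟨d, hd⟩ := hmH
  obtain ⟨w, hw, hwe⟩ := hlist d
  obtain ⟨v, ev⟩ := exists_eJ_hh (outThree.getD w 0)
  have huj : u ^ j2 = hcE * u * hcE⁻¹ := (mul_inv_eq_iff_eq_mul.mpr (eJ_injective (by
    rw [eJ_mul, eJ_mul, ehc, eu, hc]))).symm
  have hmv : m * u * m⁻¹ = v := mul_inv_eq_iff_eq_mul.mpr (eJ_injective (by
    rw [eJ_mul, eJ_mul, hd, eu, ev, hwe]))
  have hb3 : b' = r' * v * r'⁻¹ := by rw [hb2, hg2, huj, ← hmv, ← hm]; group
  have eb' : eJ b' = bCand i (outThree.getD w 0) := by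
    rw [hb3, eJ_mul, eJ_mul, erinv i hi r' hr, bCand]
    rw [show eJ r' = rr i from hr, ev]
  have hmem : outThree.getD w 0 ∈ outThree := by
    rw [List.getD_eq_getElem _ _ hw]; exact List.getElem_mem hw
  have hok := List.all_eq_true.mp (List.all_eq_true.mp out_step i (List.mem_range.mpr hi)) _ hmem
  rw [← eb', candOK, Bool.or_eq_true, Bool.or_eq_true, List.contains_iff_mem, bne_iff_ne, bne_iff_ne, comX,
    ← ea, ← eJ_mul, ← eJ_pow, ← eJ_pow, ← eJ_mul, ← eJ_mul, ← eJ_mul, ← eJ_pow, ← eJ_one] at hok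
  rcases hok with (h0 | h0) | h0
  · exact absurd (congrArg eJ hrel) h0
  · exact absurd (congrArg eJ hcom) h0
  · obtain ⟨q, hq, hqe⟩ := List.getElem_of_mem h0
    have h := List.all_eq_true.mp forb q (List.mem_range.mpr (flen ▸ hq))
    rw [beq_iff_eq, List.getD_eq_getElem _ _ hq, hqe, ← ea, ← eJ_pow, ← eb, ← eJ_mul, ← eJ_mul] at h
    have hb4 : b' = a ^ q * b * (a ^ q)⁻¹ := (mul_inv_eq_iff_eq_mul.mpr (eJ_injective h)).symm
    refine ⟨g1 * a ^ q, ?_, ?_⟩
    · rw [hα1]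
      group
    · rw [show α b = g1 * b' * g1⁻¹ by rw [hb']; group, hb4]
      group

end CfsgLib.J1
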